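import Cfsg.Agent.H98.ExtSp.Spread
import Cfsg.Agent.H95.Symp
import Cfsg.Prelude.Def_GeometricClasses

/-! Maximality of the normaliser of a self-adjoint extension field in small rank (the proof of S5664). -/

set_option autoImplicit false
open Cfsg

namespace Cfsg.Agent.H55.SpGeo

open Matrix Module Cfsg.Agent.H98 Cfsg.Agent.H98.ExtField Cfsg.Agent.H98.ExtSp

theorem extension {F : Type*} [Field F] [Fintype F] (m : ℕ) (hm : 1 ≤ m) (r : ℕ) (hr : r.Prime) (hbig : r = 2 → 2 < m) (K : Subalgebra F (Matrix (Fin m ⊕ Fin m) (Fin m ⊕ Fin m) F)) (hK : Cfsg.Geo.IsFieldSubalgebra r K) (hsa : Cfsg.Geo.IsSelfAdjointFor (Cfsg.sympForm m F) K) (halt : ∀ k ∈ K, ∀ v : (Fin m ⊕ Fin m → F), Cfsg.sympForm m F (Matrix.mulVec k v) v = 0) : Cfsg.Geo.IsMaximalIn (Cfsg.spGL m F) (Cfsg.Geo.subalgebraNormalizer K ⊓ Cfsg.spGL m F) := by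
  classical
  haveI : NeZero m := ⟨by omega⟩
  have hfield : IsField K :=
    { exists_pair_ne := ⟨0, 1, fun h => zero_ne_one
        (congrArg Subtype.val h : (0 : Matrix (Fin m ⊕ Fin m) (Fin m ⊕ Fin m) F) = 1)⟩
      mul_comm := fun a b => Subtype.ext (hK.comm _ a.2 _ b.2)
      mul_inv_cancel := fun {a} ha => by
        obtain ⟨y, hy, h⟩ := hK.inv a.1 a.2 (fun h => ha (Subtype.ext h))
        exact ⟨⟨y, hy⟩, Subtype.ext h⟩ }
  letI : Field K := hfield.toField
  let eA : Matrix (Fin m ⊕ Fin m) (Fin m ⊕ Fin m) F ≃ₐ[F] Module.End F (Fin m ⊕ Fin m → F) :=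
    Matrix.toLinAlgEquiv'
  let ρ : K →ₐ[F] Module.End F (Fin m ⊕ Fin m → F) := eA.toAlgHom.comp K.val
  letI hmod : Module K (Fin m ⊕ Fin m → F) := Module.compHom (Fin m ⊕ Fin m → F) ρ.toRingHom
  have hsmul : ∀ (k : K) (x : Fin m ⊕ Fin m → F),
      k • x = (k : Matrix (Fin m ⊕ Fin m) (Fin m ⊕ Fin m) F) *ᵥ x := fun k x => rfl
  haveI : @IsScalarTower F K (Fin m ⊕ Fin m → F) Algebra.toSMul
      hmod.toDistribMulAction.toDistribSMul.toSMulZeroClass.toSMul _ := ⟨fun c k x => by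
    show ((c • k : K) : Matrix (Fin m ⊕ Fin m) (Fin m ⊕ Fin m) F) *ᵥ x =
      c • ((k : Matrix (Fin m ⊕ Fin m) (Fin m ⊕ Fin m) F) *ᵥ x)
    exact Matrix.smul_mulVec c _ x⟩
  haveI : FiniteDimensional F K := Module.finite_of_finrank_pos (by rw [hK.finrank_eq]; exact hr.pos)
  have hr' : (finrank F K).Prime := hK.finrank_eq ▸ hr
  have hf := H95.isSymplecticForm_sympForm (F := F) m
  -- the form over `K`
  obtain ⟨τ, hτ⟩ : ∃ τ : K →ₗ[F] F, τ ≠ 0 := by
    obtain ⟨τ, h1, -⟩ := Submodule.exists_dual_map_eq_bot_of_notMem (p := (⊥ : Submodule F K)) (x := (1 : K))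
      (by simp) inferInstance
    exact ⟨τ, fun h => h1 (by rw [h]; rfl)⟩
  have hsep : ∀ a : K, (∀ s : K, τ (s * a) = 0) → a = 0 := fun a h => by
    by_contra ha
    refine hτ (LinearMap.ext fun b => ?_)
    have := h (b * a⁻¹)
    rwa [mul_assoc, inv_mul_cancel₀ ha, mul_one] at this
  let χ : (Fin m ⊕ Fin m → F) → (Fin m ⊕ Fin m → F) →ₗ[F] F := fun v =>
    { toFun := fun u => Cfsg.sympForm m F u v
      map_add' := fun x y => H95.f_add_left hf x y v
      map_smul' := fun c x => H95.f_smul_left hf c x v }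
  choose G hG _hG using fun v => exists_factor (K := K) hτ (χ v)
  have hGu : ∀ v u (s : K), τ (s * G v u) = Cfsg.sympForm m F (s • u) v := fun v u s => by
    rw [show Cfsg.sympForm m F (s • u) v = χ v (s • u) from rfl, hG, map_smul, smul_eq_mul]
  let B' : (Fin m ⊕ Fin m → F) →ₗ[K] (Fin m ⊕ Fin m → F) →ₗ[K] K :=
    { toFun := G
      map_add' := fun v v' => LinearMap.ext fun u => sub_eq_zero.1 (hsep _ fun s => by
        rw [LinearMap.add_apply, mul_sub, mul_add, map_sub, map_add, hGu, hGu, hGu, H95.f_add_right hf, sub_self])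
      map_smul' := fun k v => LinearMap.ext fun u => sub_eq_zero.1 (hsep _ fun s => by
        rw [RingHom.id_apply, LinearMap.smul_apply, smul_eq_mul, mul_sub, map_sub, hGu, ← mul_assoc, hGu, mul_comm,
          mul_smul]
        simp only [hsmul]
        rw [hsa k.1 k.2]
        exact sub_self _) }
  let S : Form F K (Fin m ⊕ Fin m → F) :=
    { B := B'.flip
      alt := fun x => hsep _ fun s => by
        rw [LinearMap.flip_apply, show B' x x = G x x from rfl, hGu, hsmul, halt s.1 s.2]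
      nd := fun x h => by
        by_contra hx
        obtain ⟨-, y, hy⟩ := hf.nondegenerate x hx
        refine hy ?_
        rw [show Cfsg.sympForm m F x y = χ y x from rfl, hG, show G y x = B'.flip x y from rfl, h, map_zero]
      τ := τ
      τ_ne := hτ }
  have hSf : ∀ u v, S.f u v = Cfsg.sympForm m F u v := fun u v => (hG v u).symm
  -- the correspondence with matrices
  let e : GL (Fin m ⊕ Fin m) F ≃* (Module.End F (Fin m ⊕ Fin m → F))ˣ := Units.mapEquiv eA.toMulEquiv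
  have he : ∀ (g : GL (Fin m ⊕ Fin m) F) (x : Fin m ⊕ Fin m → F),
      (e g : Module.End F (Fin m ⊕ Fin m → F)) x = (g : Matrix (Fin m ⊕ Fin m) (Fin m ⊕ Fin m) F) *ᵥ x :=
    fun g x => rfl
  set N := Cfsg.Geo.subalgebraNormalizer K with hN
  have hlin : ∀ u : (Module.End F (Fin m ⊕ Fin m → F))ˣ,
      (∀ (k : K) x, (u : Module.End F (Fin m ⊕ Fin m → F)) (k • x) =
        k • (u : Module.End F (Fin m ⊕ Fin m → F)) x) → e.symm u ∈ N := by
    intro u hu k
    obtain ⟨g, rfl⟩ := e.surjective u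
    rw [MulEquiv.symm_apply_apply]
    have hcomm : ∀ x ∈ K, (g : Matrix (Fin m ⊕ Fin m) (Fin m ⊕ Fin m) F) * x = x * g := fun x hx =>
      Matrix.ext_iff_mulVec.2 fun v => by
        rw [← Matrix.mulVec_mulVec, ← Matrix.mulVec_mulVec]
        simpa only [he, hsmul] using hu ⟨x, hx⟩ v
    constructor
    · intro hk
      rw [hcomm k hk, mul_assoc, Units.mul_inv, mul_one]
      exact hk
    · intro hk
      have h := hcomm _ hk
      rw [show ∀ G I : Matrix (Fin m ⊕ Fin m) (Fin m ⊕ Fin m) F, G * k * I * G = G * k * (I * G) from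
          fun G I => mul_assoc _ _ _,
        Units.inv_mul, mul_one, Units.mul_right_inj] at h
      exact h ▸ hk
  obtain ⟨k₁, hk₁, hk₁'⟩ : ∃ k ∈ K, k ∉ (⊥ : Subalgebra F (Matrix (Fin m ⊕ Fin m) (Fin m ⊕ Fin m) F)) := by
    by_contra hc
    push Not at hc
    have h1 : K = ⊥ := le_antisymm hc bot_le
    have := hK.finrank_eq
    rw [h1, Subalgebra.finrank_bot] at this
    exact hr.one_lt.ne this
  -- a transvection outside the normaliser
  obtain ⟨v, hv⟩ := exists_ne (0 : Fin m ⊕ Fin m → F)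
  set t := H95.rt hf v (1 : F) with ht
  have htN : t ∉ N := by
    intro h
    have hk' := (h k₁).1 hk₁
    set k' : K := ⟨_, hk'⟩ with hk'def
    have htv : (t : Matrix (Fin m ⊕ Fin m) (Fin m ⊕ Fin m) F) *ᵥ v = v := H95.rt_fix hf (H95.f_self hf v) 1
    have htinv : ((t⁻¹ : GL (Fin m ⊕ Fin m) F) : Matrix (Fin m ⊕ Fin m) (Fin m ⊕ Fin m) F) *ᵥ v = v := by
      conv_lhs => rw [← htv, H95.inv_mulVec_mulVec]
    have h1 : k' • v = (⟨k₁, hk₁⟩ : K) • v := by
      rw [hsmul, hsmul, ← Matrix.mulVec_mulVec, ← Matrix.mulVec_mulVec, htinv,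
        H95.rt_fix hf (halt k₁ hk₁ v) 1]
    have h2 : k' = (⟨k₁, hk₁⟩ : K) := smul_left_injective K hv h1
    have h3 : (t : Matrix (Fin m ⊕ Fin m) (Fin m ⊕ Fin m) F) * k₁ = k₁ * t :=
      calc _ = (k' : Matrix (Fin m ⊕ Fin m) (Fin m ⊕ Fin m) F) * t := by
            rw [hk'def, Subtype.coe_mk, mul_assoc, Units.inv_mul, mul_one]
        _ = _ := by rw [h2]
    obtain ⟨x, hx⟩ := S.exists_f_one hv
    rw [hSf] at hx
    have h4 := congrArg (fun A : Matrix (Fin m ⊕ Fin m) (Fin m ⊕ Fin m) F => A *ᵥ x) h3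
    simp only [← Matrix.mulVec_mulVec, ht, H95.rt_mulVec hf, hx, mul_one, one_smul, Matrix.mulVec_add,
      add_right_inj] at h4
    have h5 : (⟨k₁, hk₁⟩ : K) = Cfsg.sympForm m F (k₁ *ᵥ x) v • (1 : K) := by
      refine smul_left_injective K hv ?_
      show (⟨k₁, hk₁⟩ : K) • v = (Cfsg.sympForm m F (k₁ *ᵥ x) v • (1 : K)) • v
      rw [smul_assoc, one_smul, hsmul]
      simpa using h4.symm
    exact hk₁' (Algebra.mem_bot.2 ⟨Cfsg.sympForm m F (k₁ *ᵥ x) v, by
      rw [Algebra.algebraMap_eq_smul_one]; exact (congrArg Subtype.val h5).symm⟩)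
  refine ⟨lt_of_le_of_ne inf_le_right fun h => htN <| by
      have h' : t ∈ Cfsg.spGL m F := H95.rt_mem_iso hf v 1
      rw [← h] at h'
      exact h'.1,
    fun M h1 h2 => ?_⟩
  by_cases hMN : M ≤ N
  · exact Or.inl (le_antisymm (le_inf hMN h2) h1)
  refine Or.inr (le_antisymm h2 ?_)
  have hM : S.Over (M.map e.toMonoidHom) := by
    refine ⟨fun u hu hB => ⟨e.symm u, h1 ⟨hlin u hu, fun a b => ?_⟩, e.apply_symm_apply u⟩, ?_⟩
    · show Cfsg.sympForm m F ((e.symm u : GL (Fin m ⊕ Fin m) F).val *ᵥ a) ((e.symm u).val *ᵥ b) = _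
      rw [← he, ← he, e.apply_symm_apply, ← hSf, ← hSf, Form.f, Form.f, hB]
    · rintro _ ⟨g, hg, rfl⟩ a b
      rw [hSf, hSf]
      exact h2 hg a b
  obtain ⟨g, hg, k, hk, hgk⟩ : ∃ g ∈ M, ∃ k ∈ K, (g : Matrix (Fin m ⊕ Fin m) (Fin m ⊕ Fin m) F) * k *
      ((g⁻¹ : GL (Fin m ⊕ Fin m) F) : Matrix (Fin m ⊕ Fin m) (Fin m ⊕ Fin m) F) ∉ K := by
    obtain ⟨g, hg, hgN⟩ := SetLike.not_le_iff_exists.1 hMN
    by_contra hc
    push Not at hc
    refine hgN fun k => ⟨hc g hg k, fun h => ?_⟩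
    have := hc g⁻¹ (M.inv_mem hg) _ h
    simpa [mul_assoc] using this
  have hne' : ∀ k' : K, ∃ x, (e g : Module.End F (Fin m ⊕ Fin m → F))
      ((⟨k, hk⟩ : K) • (((e g)⁻¹ : (Module.End F (Fin m ⊕ Fin m → F))ˣ) : Module.End F (Fin m ⊕ Fin m → F)) x)
        ≠ k' • x := by
    intro k'
    by_contra hc
    push Not at hc
    refine hgk ?_
    convert k'.2 using 1
    refine Matrix.ext_iff_mulVec.2 fun v => ?_
    have := hc v
    rw [← map_inv, he, he, hsmul, hsmul] at this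
    simpa only [Matrix.mulVec_mulVec, mul_assoc] using this
  have hall := hM.root_all (M := M.map e.toMonoidHom) hr'
    (fun h => by
      rw [Module.finrank_fintype_fun_eq_card, Fintype.card_sum, Fintype.card_fin]
      have := hbig (hK.finrank_eq.symm.trans h)
      omega)
    (Subgroup.mem_map_of_mem _ hg) hne'
  rw [H95.spGL_eq_isoGrp]
  refine H95.iso_le_of_roots hf fun u c => ?_
  obtain ⟨-, w, ⟨g', hg', rfl⟩, hw⟩ := hall u c
  suffices H95.rt hf u c = g' by rw [this]; exact hg'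
  refine H95.gl_ext fun x => ?_
  have hx := (LinearMap.congr_fun hw x).symm
  rw [LinearMap.add_apply, Module.End.one_apply] at hx
  simp only [MulEquiv.coe_toMonoidHom, he, LinearMap.smulRight_apply, LinearMap.smul_apply, Form.fL_apply, hSf,
    smul_eq_mul] at hx
  rw [← hx, H95.rt_mulVec hf]

end Cfsg.Agent.H55.SpGeo
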